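import Groth.Agent.VecBal.K787.FamEff
import Groth.Agent.Stk.K751.Loc

/-!
# J7: families of schemes with a module form an fpqc stack

`K787.FamStack.main : Groth.Agent.VecBal.K812.Iface.StackStmt`
-/

set_option autoImplicit false
set_option backward.isDefEq.respectTransparency false
set_option backward.isDefEq.respectTransparency.types false
universe u

open CategoryTheory CategoryTheory.Limits AlgebraicGeometry

namespace K787.FamStack

open scoped K185 in
/-- **J7.** A full subcategory of the category of families with a module, stable under base change, with quasi-coherent modules,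
local for fpqc coverings and with effective descent data of schemes, is an fpqc stack. -/
theorem main : Groth.Agent.VecBal.K812.Iface.StackStmt.{u} := by
  intro S Q hst hqc hloc heff
  have hpre : Stk.IsPrestack (QuotSh.J Scheme.fpqcPrecoverage S) (AlgSt.fullSub (VecSt.Fam S 0) Q) :=
    K787.FamPre.isPrestack_sub le_rfl hst hqc
  refine ⟨hpre.1, fun V R hR => ?_⟩
  obtain ⟨ι, Z, p, hp, hpR⟩ := K185.Cover.exists_ofArrows_of_mem_J hR
  have hS : Sieve.generate (Presieve.ofArrows Z p) ∈ QuotSh.J Scheme.fpqcPrecoverage S V :=
    K185.Cover.ofArrows_mem_J p hp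
  refine K751.Loc.isStackFor_of_le hpre.1 (S := Sieve.generate (Presieve.ofArrows Z p)) ?_ ?_ ?_
  · rw [Sieve.generate_le_iff]
    rintro _ _ ⟨i⟩
    exact hpR i
  · rw [K751.Test.isStackFor_iff hpre.1]
    exact ⟨hpre.2 _ hS, fun D => K787.FamEff.exists_eff hst hqc hloc heff p hp D⟩
  · intro W f _
    exact hpre.2 _ ((QuotSh.J Scheme.fpqcPrecoverage S).pullback_stable f hS)

end K787.FamStack
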