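import Groth.Prelude.Def_DescFam
import Groth.Agent.Stk.K751.Test

/-!
# Cartesian diagrams of schemes over a sieve and descent data for schemes relative to a family

* `CD R` : cartesian diagrams of schemes over the arrows of a sieve `R` of `V : Over S`.
* `CD.tr` : transport of points; `CD.dd` : the descent datum `Desc.SchDDFam` relative to a family of arrows of `R`.
* `CD.exists_total` : if `R` is generated by the family and the descent datum is effective, there is a cartesian cone.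
-/

set_option autoImplicit false
set_option backward.isDefEq.respectTransparency false
set_option backward.isDefEq.respectTransparency.types false
universe u

open CategoryTheory CategoryTheory.Limits AlgebraicGeometry K751.Test

noncomputable section

namespace K787.TotDesc

variable {S : Scheme.{u}} {V : Over S}

/-- A cartesian diagram of schemes over the arrows of a sieve. -/
structure CD (R : Sieve V) where
  /-- the schemes -/
  C : R.arrows.category → Scheme.{u}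
  /-- the structure morphisms -/
  q : ∀ o : R.arrows.category, C o ⟶ o.obj.left.left
  /-- the transition morphisms -/
  top : ∀ {o o' : R.arrows.category} (_ : o ⟶ o'), C o ⟶ C o'
  cart : ∀ {o o' : R.arrows.category} (f : o ⟶ o'), IsPullback (top f) (q o) (q o') f.hom.left.left
  top_comp : ∀ {o o' o'' : R.arrows.category} (f : o ⟶ o') (g : o' ⟶ o''), top (f ≫ g) = top f ≫ top g

/-- The structure morphism of an arrow, on schemes. -/
abbrev hm {R : Sieve V} (o : R.arrows.category) : o.obj.left.left ⟶ V.left := o.obj.hom.left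

theorem hm_w {R : Sieve V} {o o' : R.arrows.category} (f : o ⟶ o') : f.hom.left.left ≫ hm o' = hm o :=
  congrArg CommaMorphism.left (Over.w f.hom)

/-- The arrow of the sieve given by a morphism of schemes factoring through an arrow of the sieve. -/
abbrev ob {R : Sieve V} (o : R.arrows.category) {T : Scheme.{u}} (x : T ⟶ o.obj.left.left) : R.arrows.category :=
  mkS (Over.homMk (x ≫ hm o) (by
      rw [Category.assoc, Over.w o.obj.hom]; rfl) : (Over.mk (x ≫ o.obj.left.hom) : Over S) ⟶ V) (by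
    have h : (Over.homMk (x ≫ hm o) (by
      rw [Category.assoc, Over.w o.obj.hom]; rfl) : (Over.mk (x ≫ o.obj.left.hom) : Over S) ⟶ V) =
      (Over.homMk x rfl : (Over.mk (x ≫ o.obj.left.hom) : Over S) ⟶ o.obj.left) ≫ o.obj.hom :=
      Over.OverMorphism.ext rfl
    rw [h]
    exact R.downward_closed o.property _)

/-- Its morphism to an arrow through which the morphism of schemes factors. -/
abbrev obm {R : Sieve V} (o : R.arrows.category) {T : Scheme.{u}} (x : T ⟶ o.obj.left.left)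
    (o' : R.arrows.category) (x' : T ⟶ o'.obj.left.left) (h : x' ≫ hm o' = x ≫ hm o) : ob o x ⟶ o' :=
  homS (a := ob o x) (b := o') (Over.homMk x' (by
    change x' ≫ o'.obj.left.hom = x ≫ o.obj.left.hom
    have h1 : hm o' ≫ V.hom = o'.obj.left.hom := Over.w o'.obj.hom
    have h2 : hm o ≫ V.hom = o.obj.left.hom := Over.w o.obj.hom
    rw [← h1, ← h2, ← Category.assoc, h, Category.assoc])) (Over.OverMorphism.ext h)

theorem hom_ext {R : Sieve V} {o o' : R.arrows.category} {f g : o ⟶ o'} (h : f.hom.left.left = g.hom.left.left) :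
    f = g := by
  apply ObjectProperty.hom_ext
  apply Over.OverMorphism.ext
  apply Over.OverMorphism.ext
  exact h

namespace CD

variable {R : Sieve V} (𝒟 : CD R)

/-- The section of the diagram given by a point. -/
def sec (o : R.arrows.category) {T : Scheme.{u}} (v : T ⟶ 𝒟.C o) : T ⟶ 𝒟.C (ob o (v ≫ 𝒟.q o)) :=
  (𝒟.cart (obm o (v ≫ 𝒟.q o) o (v ≫ 𝒟.q o) rfl)).lift v (𝟙 T) (Category.id_comp _).symm

theorem sec_top (o : R.arrows.category) {T : Scheme.{u}} (v : T ⟶ 𝒟.C o) :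
    𝒟.sec o v ≫ 𝒟.top (obm o (v ≫ 𝒟.q o) o (v ≫ 𝒟.q o) rfl) = v := IsPullback.lift_fst _ _ _ _

theorem sec_q (o : R.arrows.category) {T : Scheme.{u}} (v : T ⟶ 𝒟.C o) :
    𝒟.sec o v ≫ 𝒟.q (ob o (v ≫ 𝒟.q o)) = 𝟙 T := IsPullback.lift_snd _ _ _ _

/-- Transport of points. -/
def tr {o : R.arrows.category} {T : Scheme.{u}} (v : T ⟶ 𝒟.C o) (o' : R.arrows.category)
    (x' : T ⟶ o'.obj.left.left) (h : x' ≫ hm o' = (v ≫ 𝒟.q o) ≫ hm o) : T ⟶ 𝒟.C o' :=
  𝒟.sec o v ≫ 𝒟.top (obm o (v ≫ 𝒟.q o) o' x' h)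

theorem tr_q {o : R.arrows.category} {T : Scheme.{u}} (v : T ⟶ 𝒟.C o) (o' : R.arrows.category)
    (x' : T ⟶ o'.obj.left.left) (h : x' ≫ hm o' = (v ≫ 𝒟.q o) ≫ hm o) : 𝒟.tr v o' x' h ≫ 𝒟.q o' = x' := by
  have h1 := (𝒟.cart (obm o (v ≫ 𝒟.q o) o' x' h)).w
  rw [tr, Category.assoc, h1, ← Category.assoc, sec_q]
  exact Category.id_comp _

/-- Characterisation of the transport. -/
theorem tr_eq {o : R.arrows.category} {T : Scheme.{u}} (v : T ⟶ 𝒟.C o) (o' : R.arrows.category)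
    (x' : T ⟶ o'.obj.left.left) (h : x' ≫ hm o' = (v ≫ 𝒟.q o) ≫ hm o) {a : R.arrows.category} (s : T ⟶ 𝒟.C a)
    (f : a ⟶ o) (g : a ⟶ o') (hf : s ≫ 𝒟.top f = v) (hg : s ≫ 𝒟.q a ≫ g.hom.left.left = x') :
    𝒟.tr v o' x' h = s ≫ 𝒟.top g := by
  have e1 : s ≫ 𝒟.q a ≫ f.hom.left.left = v ≫ 𝒟.q o := by
    rw [← (𝒟.cart f).w, ← Category.assoc, hf]
  have e2 : (s ≫ 𝒟.q a) ≫ hm a = (v ≫ 𝒟.q o) ≫ hm o := by
    rw [← e1]
    simp only [Category.assoc]
    rw [hm_w]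
  let m : ob o (v ≫ 𝒟.q o) ⟶ a := obm o (v ≫ 𝒟.q o) a (s ≫ 𝒟.q a) e2
  have em : 𝒟.sec o v ≫ 𝒟.top m = s := by
    apply (𝒟.cart f).hom_ext
    · have h1 : m ≫ f = obm o (v ≫ 𝒟.q o) o (v ≫ 𝒟.q o) rfl := hom_ext (by
        change (s ≫ 𝒟.q a) ≫ f.hom.left.left = v ≫ 𝒟.q o
        rw [Category.assoc, e1])
      rw [Category.assoc, ← 𝒟.top_comp, h1, sec_top, hf]
    · rw [Category.assoc, (𝒟.cart m).w, ← Category.assoc, sec_q]
      exact Category.id_comp _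
  have h2 : m ≫ g = obm o (v ≫ 𝒟.q o) o' x' h := hom_ext (by
    change (s ≫ 𝒟.q a) ≫ g.hom.left.left = x'
    rw [Category.assoc, hg])
  rw [tr, ← h2, 𝒟.top_comp, ← Category.assoc, em]

theorem tr_self {o : R.arrows.category} {T : Scheme.{u}} (v : T ⟶ 𝒟.C o) (x : T ⟶ o.obj.left.left)
    (hx : v ≫ 𝒟.q o = x) (h : x ≫ hm o = (v ≫ 𝒟.q o) ≫ hm o) : 𝒟.tr v o x h = v := by
  subst hx
  exact 𝒟.sec_top o v

theorem tr_tr {o : R.arrows.category} {T : Scheme.{u}} (v : T ⟶ 𝒟.C o) (o' : R.arrows.category)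
    (x' : T ⟶ o'.obj.left.left) (h : x' ≫ hm o' = (v ≫ 𝒟.q o) ≫ hm o) (o'' : R.arrows.category)
    (x'' : T ⟶ o''.obj.left.left) (h' : x'' ≫ hm o'' = (𝒟.tr v o' x' h ≫ 𝒟.q o') ≫ hm o')
    (h'' : x'' ≫ hm o'' = (v ≫ 𝒟.q o) ≫ hm o) :
    𝒟.tr (𝒟.tr v o' x' h) o'' x'' h' = 𝒟.tr v o'' x'' h'' := by
  refine 𝒟.tr_eq (𝒟.tr v o' x' h) o'' x'' h' (𝒟.sec o v) (obm o (v ≫ 𝒟.q o) o' x' h)
    (obm o (v ≫ 𝒟.q o) o'' x'' h'') rfl ?_
  rw [← Category.assoc, sec_q]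
  exact Category.id_comp _

theorem comp_tr {o : R.arrows.category} {T T' : Scheme.{u}} (g : T' ⟶ T) (v : T ⟶ 𝒟.C o) (o' : R.arrows.category)
    (x' : T ⟶ o'.obj.left.left) (h : x' ≫ hm o' = (v ≫ 𝒟.q o) ≫ hm o) (y' : T' ⟶ o'.obj.left.left)
    (hy : g ≫ x' = y') (h' : y' ≫ hm o' = ((g ≫ v) ≫ 𝒟.q o) ≫ hm o) :
    𝒟.tr (g ≫ v) o' y' h' = g ≫ 𝒟.tr v o' x' h := by
  refine (𝒟.tr_eq (g ≫ v) o' y' h' (g ≫ 𝒟.sec o v) (obm o (v ≫ 𝒟.q o) o (v ≫ 𝒟.q o) rfl)
    (obm o (v ≫ 𝒟.q o) o' x' h) ?_ ?_).trans (Category.assoc _ _ _)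
  · rw [Category.assoc, sec_top]
  · have h1 : (obm o (v ≫ 𝒟.q o) o' x' h).hom.left.left = x' := rfl
    rw [h1, ← Category.assoc, Category.assoc g, sec_q, Category.comp_id, hy]

section dd

variable {ι : Type u} {Z : ι → Over S} (p : ∀ i, Z i ⟶ V) (hp : ∀ i, R (p i))

/-- The transport as an equivalence. -/
def trEquiv {T : Scheme.{u}} {o o' : R.arrows.category} (x : T ⟶ o.obj.left.left) (x' : T ⟶ o'.obj.left.left)
    (h : x ≫ hm o = x' ≫ hm o') :
    Desc.Lifts (Over.mk (𝒟.q o)) x ≃ Desc.Lifts (Over.mk (𝒟.q o')) x' where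
  toFun v := ⟨𝒟.tr v.1 o' x' (by
    have h1 : v.1 ≫ 𝒟.q o = x := v.2
    rw [h1, h]), 𝒟.tr_q _ _ _ _⟩
  invFun v := ⟨𝒟.tr v.1 o x (by
    have h1 : v.1 ≫ 𝒟.q o' = x' := v.2
    rw [h1, h]), 𝒟.tr_q _ _ _ _⟩
  left_inv v := Subtype.ext (by
    have h1 : v.1 ≫ 𝒟.q o = x := v.2
    refine (𝒟.tr_tr v.1 o' x' _ o x _ (by rw [h1])).trans ?_
    exact 𝒟.tr_self v.1 x h1 _)
  right_inv v := Subtype.ext (by
    have h1 : v.1 ≫ 𝒟.q o' = x' := v.2
    refine (𝒟.tr_tr v.1 o x _ o' x' _ (by rw [h1])).trans ?_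
    exact 𝒟.tr_self v.1 x' h1 _)

theorem trEquiv_val {T : Scheme.{u}} {o o' : R.arrows.category} (x : T ⟶ o.obj.left.left)
    (x' : T ⟶ o'.obj.left.left) (h : x ≫ hm o = x' ≫ hm o') (v : Desc.Lifts (Over.mk (𝒟.q o)) x)
    (h' : x' ≫ hm o' = (v.1 ≫ 𝒟.q o) ≫ hm o) :
    (𝒟.trEquiv x x' h v).1 = 𝒟.tr v.1 o' x' h' := rfl

/-- The descent datum relative to a family of arrows of the sieve. -/
def dd : Desc.SchDDFam (fun i => (p i).left) where
  obj i := Over.mk (𝒟.q (mkS (p i) (hp i)))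
  φ T i j x₀ x₁ h := 𝒟.trEquiv (o := mkS (p i) (hp i)) (o' := mkS (p j) (hp j)) x₀ x₁ h
  φ_natural T T' g i j x₀ x₁ h y₀ y₁ hy₀ hy₁ h' v v' hv' := by
    obtain ⟨v', e'⟩ := v'
    obtain rfl : v' = g ≫ v.1 := hv'
    exact 𝒟.comp_tr g v.1 (mkS (p j) (hp j)) x₁ _ y₁ hy₁ _
  φ_self T i x v := Subtype.ext (𝒟.tr_self (o := mkS (p i) (hp i)) v.1 x v.2 _)
  φ_comp T i j k x₀ x₁ x₂ h₀₁ h₁₂ v := Subtype.ext (𝒟.tr_tr (o := mkS (p i) (hp i)) v.1 (mkS (p j) (hp j)) x₁ _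
    (mkS (p k) (hp k)) x₂ _ (by
      have h1 : v.1 ≫ 𝒟.q (mkS (p i) (hp i)) = x₀ := v.2
      rw [h1]
      exact (h₀₁.trans h₁₂).symm))

/-- The cartesian cone of an effective descent datum, at the members of the family. -/
theorem exists_cone (he : (𝒟.dd p hp).IsEffective) :
    ∃ (W : Over V.left) (c : ∀ i, 𝒟.C (mkS (p i) (hp i)) ⟶ W.left),
      (∀ i, IsPullback (c i) (𝒟.q (mkS (p i) (hp i))) W.hom (p i).left) ∧
      ∀ (T : Scheme.{u}) (i j : ι) (v : T ⟶ 𝒟.C (mkS (p i) (hp i))) (x' : T ⟶ (Z j).left)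
        (h : x' ≫ (p j).left = (v ≫ 𝒟.q (mkS (p i) (hp i))) ≫ (p i).left),
        𝒟.tr v (mkS (p j) (hp j)) x' h ≫ c j = v ≫ c i := by
  obtain ⟨W, ⟨e⟩⟩ := he
  let a : ∀ i, 𝒟.C (mkS (p i) (hp i)) ⟶ pullback (p i).left W.hom := fun i => (e.inv.hom i).left
  let b : ∀ i, pullback (p i).left W.hom ⟶ 𝒟.C (mkS (p i) (hp i)) := fun i => (e.hom.hom i).left
  have hab : ∀ i, a i ≫ b i = 𝟙 _ := fun i =>
    congrArg (fun t : (𝒟.dd p hp) ⟶ (𝒟.dd p hp) => (t.hom i).left) e.inv_hom_id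
  have hba : ∀ i, b i ≫ a i = 𝟙 _ := fun i =>
    congrArg (fun t : (Desc.toDDFam (fun i => (p i).left)).obj W ⟶ (Desc.toDDFam (fun i => (p i).left)).obj W =>
      (t.hom i).left) e.hom_inv_id
  have ha : ∀ i, a i ≫ pullback.fst (p i).left W.hom = 𝒟.q (mkS (p i) (hp i)) := fun i => Over.w (e.inv.hom i)
  have hia : ∀ i, IsIso (a i) := fun i => ⟨b i, hab i, hba i⟩
  refine ⟨W, fun i => a i ≫ pullback.snd (p i).left W.hom, fun i => ?_, fun T i j v x' h => ?_⟩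
  · refine IsPullback.of_iso (IsPullback.of_hasPullback (p i).left W.hom).flip (asIso (a i)).symm (Iso.refl _)
      (Iso.refl _) (Iso.refl _) ?_ ?_ ?_ ?_
    · simp
    · simp [← ha]
    · simp
    · simp
  · let v₀ : Desc.Lifts ((𝒟.dd p hp).obj i) (v ≫ 𝒟.q (mkS (p i) (hp i))) := ⟨v, rfl⟩
    have h1 := e.inv.comm (v ≫ 𝒟.q (mkS (p i) (hp i))) x' h.symm v₀ (e.inv.push v₀) rfl
    have h2 := congrArg (fun z => z ≫ pullback.snd (p j).left W.hom) h1
    have h3 : (((Desc.toDDFam (fun i => (p i).left)).obj W).φ (v ≫ 𝒟.q (mkS (p i) (hp i))) x' h.symm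
        (e.inv.push v₀)).1 ≫ pullback.snd (p j).left W.hom =
        (v ≫ a i) ≫ pullback.snd (p i).left W.hom := pullback.lift_snd _ _ _
    rw [h3] at h2
    have h4 : ((𝒟.dd p hp).φ (v ≫ 𝒟.q (mkS (p i) (hp i))) x' h.symm v₀).1 =
        𝒟.tr v (mkS (p j) (hp j)) x' h := rfl
    rw [h4] at h2
    rw [← Category.assoc, ← Category.assoc]
    exact h2.symm

end dd

/-- **The total space.** If the sieve is generated by the family and the descent datum is effective, the cartesian diagram has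
a cartesian cone. -/
theorem exists_total {ι : Type u} {Z : ι → Over S} (p : ∀ i, Z i ⟶ V)
    (𝒟 : CD (Sieve.generate (Presieve.ofArrows Z p)))
    (hp : ∀ i, (Sieve.generate (Presieve.ofArrows Z p)) (p i)) (he : (𝒟.dd p hp).IsEffective) :
    ∃ (W : Over V.left) (c : ∀ o, 𝒟.C o ⟶ W.left), (∀ o, IsPullback (c o) (𝒟.q o) W.hom (hm o)) ∧
      ∀ {o o' : (Sieve.generate (Presieve.ofArrows Z p)).arrows.category} (f : o ⟶ o'),
        𝒟.top f ≫ c o' = c o := by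
  obtain ⟨W, c, hc, hcc⟩ := 𝒟.exists_cone p hp he
  have fac : ∀ o : (Sieve.generate (Presieve.ofArrows Z p)).arrows.category,
      ∃ i : ι, Nonempty (o ⟶ mkS (p i) (hp i)) := by
    intro o
    obtain ⟨W, h, g, ⟨i⟩, w⟩ := o.property
    exact ⟨i, ⟨homS (a := o) (b := mkS (p i) (hp i)) h w⟩⟩
  choose i f using fac
  let F : ∀ o, o ⟶ mkS (p (i o)) (hp (i o)) := fun o => (f o).some
  have indep : ∀ (o) (i j : ι) (f : o ⟶ mkS (p i) (hp i)) (g : o ⟶ mkS (p j) (hp j)),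
      𝒟.top f ≫ c i = 𝒟.top g ≫ c j := by
    intro o i j f g
    have h1 : (𝒟.q o ≫ g.hom.left.left) ≫ (p j).left =
        (𝒟.top f ≫ 𝒟.q (mkS (p i) (hp i))) ≫ (p i).left := by
      rw [(𝒟.cart f).w, Category.assoc, Category.assoc]
      exact congrArg (fun z => 𝒟.q o ≫ z) ((hm_w g).trans (hm_w f).symm)
    rw [← hcc _ i j (𝒟.top f) (𝒟.q o ≫ g.hom.left.left) h1]
    congr 1
    refine (𝒟.tr_eq (𝒟.top f) (mkS (p j) (hp j)) (𝒟.q o ≫ g.hom.left.left) h1 (𝟙 _) f g (Category.id_comp _)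
      (Category.id_comp _)).trans (Category.id_comp _)
  refine ⟨W, fun o => 𝒟.top (F o) ≫ c (i o), fun o => ?_, fun {o o'} g => ?_⟩
  · have h1 := (𝒟.cart (F o)).paste_horiz (hc (i o))
    have h2 : (F o).hom.left.left ≫ (p (i o)).left = hm o := hm_w (F o)
    rw [h2] at h1
    exact h1
  · rw [← Category.assoc, ← 𝒟.top_comp]
    exact indep o _ _ _ _

end CD

end K787.TotDesc
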