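import Groth.Agent.VecBal.K787.FamPre
import Groth.Agent.VecBal.K787.TotDesc
import Groth.Agent.ModSt.K927.MdStack
import Groth.Agent.Stk.K751.Kan
import Groth.Agent.VecBal.K812.Iface

/-!
# Effective descent data of families of schemes with a module

* `cd D` : the cartesian diagram of total spaces of a descent datum `D : sieveCat R ⥤ᵇ fullSub (VecSt.Fam S n) Q`.
* `exists_mod` : descent of the modules to the total space.
* `exists_eff` : descent data along a sieve generated by an fpqc family are effective.
-/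

set_option autoImplicit false
set_option backward.isDefEq.respectTransparency false
set_option backward.isDefEq.respectTransparency.types false
universe u

open CategoryTheory CategoryTheory.Limits AlgebraicGeometry Opposite ModSt K927.ModSt VecSt K787.FamFib K787.FamPre
  K787.TotDesc K751.Test K751.Kan

noncomputable section

namespace K787.FamEff

variable {S : Scheme.{u}} {n : ℕ} {Q : Obj S n → Prop} {V : Over S} {R : Sieve V}

section Basic

variable (D : Stk.sieveCat R ⥤ᵇ AlgSt.fullSub (Fam S n) Q)

/-- The family over an arrow. -/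
abbrev fm (o : R.arrows.category) : Obj S n := (D.obj o).obj

theorem fm_base (o : R.arrows.category) : (fm D o).base = o.obj.left := D_obj D o

/-- The comparison of the bases. -/
abbrev eb (o : R.arrows.category) : (fm D o).base ⟶ o.obj.left := eqToHom (fm_base D o)

/-- The morphism of families over a morphism of arrows. -/
abbrev fmap {o o' : R.arrows.category} (f : o ⟶ o') : fm D o ⟶ fm D o' := (D.map f).hom

theorem fmap_comp {o o' o'' : R.arrows.category} (f : o ⟶ o') (g : o' ⟶ o'') :
    fmap D (f ≫ g) = fmap D f ≫ fmap D g :=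
  congrArg (fun t => t.hom) (D.map_comp f g)

theorem fmap_base {o o' : R.arrows.category} (f : o ⟶ o') :
    (fmap D f).hom.base ≫ eb D o' = eb D o ≫ f.hom.left := by
  have h1 : (Stk.sieveCat R).p.IsHomLift f.hom.left f := IsHomLift.map (Stk.sieveCat R).p f
  have h2 : (AlgSt.fullSub (Fam S n) Q).p.IsHomLift f.hom.left (D.map f) :=
    BasedFunctor.preserves_isHomLift D f.hom.left f
  have h3 : (fmap D f).hom.base = eqToHom (fm_base D o) ≫ f.hom.left ≫ eqToHom (fm_base D o').symm :=
    IsHomLift.fac' (AlgSt.fullSub (Fam S n) Q).p f.hom.left (D.map f)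
  rw [h3, Category.assoc, Category.assoc, eqToHom_trans, eqToHom_refl, Category.comp_id]

/-- The cartesian diagram of total spaces. -/
def cd : CD R where
  C o := (fm D o).C
  q o := (fm D o).f ≫ (eb D o).left
  top f := (fmap D f).hom.top
  cart {o o'} f := by
    have h1 := (fmap D f).hom.cart
    have h2 : IsPullback (fmap D f).hom.base.left (eb D o).left (eb D o').left f.hom.left.left := by
      have i1 : IsIso (eb D o).left := inferInstanceAs (IsIso ((Over.forget S).map (eb D o)))
      have i2 : IsIso (eb D o').left := inferInstanceAs (IsIso ((Over.forget S).map (eb D o')))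
      exact IsPullback.of_vert_isIso ⟨congrArg CommaMorphism.left (fmap_base D f)⟩
    exact h1.paste_vert h2
  top_comp f g := congrArg (fun t : fm D _ ⟶ fm D _ => t.hom.top) (fmap_comp D f g)

theorem nonempty_iso_comp {X Y Z : Scheme.{u}} (f : X ⟶ Y) (g : Y ⟶ Z) (h : X ⟶ Z) (w : f ≫ g = h) (M : Z.Modules)
    (N : Y.Modules) (e : (Scheme.Modules.pullback g).obj M ≅ N) :
    Nonempty ((Scheme.Modules.pullback h).obj M ≅ (Scheme.Modules.pullback f).obj N) := by
  subst w
  exact ⟨((Scheme.Modules.pullbackComp f g).app M).symm ≪≫ (Scheme.Modules.pullback f).mapIso e⟩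

/-- The modules and the transport of points. -/
theorem nonempty_iso_tr {o : R.arrows.category} {T : Scheme.{u}} (v : T ⟶ (cd D).C o) (o' : R.arrows.category)
    (x' : T ⟶ o'.obj.left.left) (h : x' ≫ hm o' = (v ≫ (cd D).q o) ≫ hm o) :
    Nonempty ((Scheme.Modules.pullback v).obj (fm D o).E ≅
      (Scheme.Modules.pullback ((cd D).tr v o' x' h)).obj (fm D o').E) := by
  obtain ⟨e1⟩ := nonempty_iso_pullback (fmap D (obm o (v ≫ (cd D).q o) o (v ≫ (cd D).q o) rfl)).cart
  obtain ⟨e2⟩ := nonempty_iso_pullback (fmap D (obm o (v ≫ (cd D).q o) o' x' h)).cart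
  obtain ⟨e3⟩ := nonempty_iso_comp ((cd D).sec o v) _ v ((cd D).sec_top o v) _ _ e1
  obtain ⟨e4⟩ := nonempty_iso_comp ((cd D).sec o v) _ ((cd D).tr v o' x' h) rfl _ _ e2
  exact ⟨e3 ≪≫ e4.symm⟩

end Basic

section Mod

variable (D : Stk.sieveCat R ⥤ᵇ AlgSt.fullSub (Fam S n) Q) (hqc : ∀ A, Q A → Coh.IsQCoh A.E)
  {W : Over V.left} (c : ∀ o, (cd D).C o ⟶ W.left) (hc : ∀ o, IsPullback (c o) ((cd D).q o) W.hom (hm o))
  (hcc : ∀ {o o' : R.arrows.category} (f : o ⟶ o'), (cd D).top f ≫ c o' = c o)

/-- The total spaces over the total space of the cone. -/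
def uF : R.arrows.category ⥤ Over W.left where
  obj o := Over.mk (c o)
  map f := Over.homMk ((cd D).top f) (hcc f)
  map_id o := by
    apply Over.OverMorphism.ext
    exact congrArg (fun t => t.hom.hom.top) (D.map_id o)
  map_comp f g := by
    apply Over.OverMorphism.ext
    exact (cd D).top_comp f g

variable (W R) in
/-- The sieve on the total space. -/
abbrev sv : Sieve (Over.mk (𝟙 W.left) : Over W.left) :=
  (Sieve.overEquiv (Over.mk (𝟙 W.left))).symm ((Sieve.overEquiv V R).pullback W.hom)

theorem sv_iff {Y : Over W.left} (g : Y ⟶ Over.mk (𝟙 W.left)) :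
    sv R W g ↔ R (rq (V := V) (g.left ≫ W.hom)) := by
  rw [sv, Sieve.overEquiv_symm_iff]
  exact Sieve.overEquiv_iff R (g.left ≫ W.hom)

omit D in
theorem rq_of (o : R.arrows.category) {T : Scheme.{u}} (x : T ⟶ o.obj.left.left) {k : T ⟶ V.left}
    (hk : x ≫ hm o = k) : R (rq k) := by
  have h2 : hm o ≫ V.hom = o.obj.left.hom := Over.w o.obj.hom
  have h1 : (Over.homMk x (by
      change x ≫ o.obj.left.hom = k ≫ V.hom
      rw [← h2, ← hk, Category.assoc]) : (Over.mk (k ≫ V.hom) : Over S) ⟶ o.obj.left) ≫ o.obj.hom = rq k :=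
    Over.OverMorphism.ext hk
  rw [← h1]
  exact R.downward_closed o.property _

include hc in
theorem sv_c (o : R.arrows.category) :
    sv R W (Over.homMk (c o) (Category.comp_id _) : Over.mk (c o) ⟶ Over.mk (𝟙 W.left)) := by
  rw [sv_iff]
  exact rq_of o ((cd D).q o) (hc o).w.symm

/-- The functor from the arrows of `R` to the arrows of the sieve on the total space. -/
def wF : R.arrows.category ⥤ (sv R W).arrows.category where
  obj o := mkS _ (sv_c D c hc o)
  map {o o'} f := homS (a := mkS _ (sv_c D c hc o)) (b := mkS _ (sv_c D c hc o'))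
    (Over.homMk ((cd D).top f) (hcc f)) (Over.OverMorphism.ext (hcc f))
  map_id o := by
    apply ObjectProperty.hom_ext
    apply Over.OverMorphism.ext
    apply Over.OverMorphism.ext
    exact congrArg (fun t => t.hom.hom.top) (D.map_id o)
  map_comp f g := by
    apply ObjectProperty.hom_ext
    apply Over.OverMorphism.ext
    apply Over.OverMorphism.ext
    exact (cd D).top_comp f g

/-- The arrow of `R` attached to an arrow of the sieve on the total space. -/
abbrev ab (b : (sv R W).arrows.category) : R.arrows.category :=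
  aq (b.obj.hom.left ≫ W.hom) ((sv_iff b.obj.hom).1 b.property)

/-- The section of the diagram attached to an arrow of the sieve on the total space. -/
def kb (b : (sv R W).arrows.category) : b.obj.left.left ⟶ (cd D).C (ab b) :=
  (hc (ab b)).lift b.obj.hom.left (𝟙 _) (Category.id_comp _).symm

theorem kb_c (b : (sv R W).arrows.category) : kb D c hc b ≫ c (ab b) = b.obj.hom.left := IsPullback.lift_fst _ _ _ _

theorem kb_q (b : (sv R W).arrows.category) : kb D c hc b ≫ (cd D).q (ab b) = 𝟙 _ := IsPullback.lift_snd _ _ _ _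

/-- The section as a morphism of the sieve category. -/
abbrev kB (b : (sv R W).arrows.category) : b ⟶ (wF D c hc hcc).obj (ab b) :=
  homS (a := b) (b := (wF D c hc hcc).obj (ab b)) (Over.homMk (kb D c hc b) (by
      change kb D c hc b ≫ c (ab b) = b.obj.left.hom
      rw [kb_c, ← Over.w b.obj.hom]
      exact (Category.comp_id _).symm)) (Over.OverMorphism.ext (kb_c D c hc b))

omit D in
theorem hom_left (b : (sv R W).arrows.category) : b.obj.hom.left = b.obj.left.hom := by
  have h := Over.w b.obj.hom
  exact (Category.comp_id _).symm.trans h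

/-- The morphism of arrows given by a morphism to a total space. -/
theorem exists_gb (b : (sv R W).arrows.category) (o : R.arrows.category) (k : b ⟶ (wF D c hc hcc).obj o) :
    ∃ g : ab b ⟶ o, g.hom.left.left = k.hom.left.left ≫ (cd D).q o ∧ kB D c hc hcc b ≫ (wF D c hc hcc).map g = k := by
  have hk : k.hom.left.left ≫ c o = b.obj.hom.left := congrArg CommaMorphism.left (Over.w k.hom)
  have h1 : (k.hom.left.left ≫ (cd D).q o) ≫ hm o = hm (ab b) := by
    change (k.hom.left.left ≫ (cd D).q o) ≫ hm o = b.obj.hom.left ≫ W.hom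
    rw [Category.assoc, ← (hc o).w, ← Category.assoc, hk]
  let g : ab b ⟶ o := homS (a := ab b) (b := o) (Over.homMk (k.hom.left.left ≫ (cd D).q o) (by
    have h2 : hm o ≫ V.hom = o.obj.left.hom := Over.w o.obj.hom
    change (k.hom.left.left ≫ (cd D).q o) ≫ o.obj.left.hom = (b.obj.hom.left ≫ W.hom) ≫ V.hom
    rw [← h2, ← Category.assoc, h1]
    rfl)) (Over.OverMorphism.ext h1)
  refine ⟨g, rfl, ?_⟩
  apply ObjectProperty.hom_ext
  apply Over.OverMorphism.ext
  apply Over.OverMorphism.ext
  change kb D c hc b ≫ (cd D).top g = k.hom.left.left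
  apply (hc o).hom_ext
  · rw [Category.assoc, hcc g, kb_c, hk]
  · rw [Category.assoc, ((cd D).cart g).w, ← Category.assoc, kb_q]
    exact Category.id_comp _

theorem cof : Cof (wF D c hc hcc) where
  ne b := ⟨ab b, ⟨kB D c hc hcc b⟩⟩
  span {b o o'} k k' := by
    obtain ⟨g, -, hg⟩ := exists_gb D c hc hcc b o k
    obtain ⟨g', -, hg'⟩ := exists_gb D c hc hcc b o' k'
    exact ⟨ab b, g, g', kB D c hc hcc b, hg, hg'⟩
  eq {b o o'} h h' k e := by
    obtain ⟨g, hg0, hg⟩ := exists_gb D c hc hcc b o k
    refine ⟨ab b, g, kB D c hc hcc b, hg, TotDesc.hom_ext ?_⟩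
    change g.hom.left.left ≫ h.hom.left.left = g.hom.left.left ≫ h'.hom.left.left
    have e' : k.hom.left.left ≫ (cd D).top h = k.hom.left.left ≫ (cd D).top h' :=
      congrArg (fun t => t.hom.left.left) e
    have e'' := congrArg (fun z => z ≫ (cd D).q o') e'
    rw [hg0, Category.assoc, Category.assoc, ← ((cd D).cart h).w, ← ((cd D).cart h').w, ← Category.assoc,
      ← Category.assoc]
    exact e''

/-- The index category as a category over itself. -/
abbrev AA (R : Sieve V) : BasedCategory R.arrows.category := BasedCategory.ofFunctor (𝟭 _)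

def hwF : wF D c hc hcc ⋙ (Stk.sieveCat (sv R W)).p ≅ (AA R).p ⋙ uF D c hcc :=
  NatIso.ofComponents (fun o => Iso.refl _) (fun f => (Category.comp_id _).trans (Category.id_comp _).symm)

omit D in
theorem moHom_id {A : Obj S n} (hA : Coh.IsQCoh A.E) {X : Scheme.{u}} {g : A.C ⟶ X}
    (w : (𝟙 A : A ⟶ A).hom.top ≫ g = g) : moHom hA hA (𝟙 A) w = 𝟙 _ := rfl

/-- The modules as a functor over the index category. -/
def HF : AA R ⥤ᵇ pb (uF D c hcc) (Md W.left) :=
  K751.FG.mkFunctor (𝒳 := AA R) (𝒴 := pb (uF D c hcc) (Md W.left))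
    (fun o => (⟨o, mo (fm D o) (hqc _ (D.obj o).property) (c o), Iso.refl _⟩ :
      CategoricalPullback (uF D c hcc) (Md W.left).p))
    (fun {o o'} f => ⟨f, moHom (hqc _ (D.obj o).property) (hqc _ (D.obj o').property) (fmap D f) (hcc f),
      (Category.comp_id _).trans (Category.id_comp _).symm⟩)
    (fun {o o'} f => (pb_lift_iff (u := uF D c hcc) (𝒮 := Md W.left)
      (X := ⟨o, mo (fm D o) (hqc _ (D.obj o).property) (c o), Iso.refl _⟩)
      (Y := ⟨o', mo (fm D o') (hqc _ (D.obj o').property) (c o'), Iso.refl _⟩) f _).2 rfl)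
    (fun o => pb_hom_ext rfl (by
      have h : fmap D (𝟙 o) = 𝟙 (fm D o) := congrArg (fun t => t.hom) (D.map_id o)
      exact moHom_congr (hqc _ (D.obj o).property) (hqc _ (D.obj o).property) (g := c o) (g' := c o) (hcc (𝟙 o))
        (Category.id_comp _) h))
    (fun {o o' o''} f g => pb_hom_ext rfl (by
      exact moHom_congr (hqc _ (D.obj o).property) (hqc _ (D.obj o'').property) (g := c o) (g' := c o'')
        (hcc (f ≫ g)) ((Category.assoc _ _ _).trans
          ((congrArg (fun z => (cd D).top f ≫ z) (hcc g)).trans (hcc f))) (fmap_comp D f g)))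

open scoped K185 in
include hc in
/-- Descent of the modules to the total space of the cone. -/
theorem exists_mod (hR : R ∈ QuotSh.J Scheme.fpqcPrecoverage S V) :
    ∃ (E : W.left.Modules) (hE : Coh.IsQCoh E)
      (m : ∀ o, mo (fm D o) (hqc _ (D.obj o).property) (c o) ⟶ (⟨Over.mk (𝟙 W.left), E, hE⟩ : MObj W.left)),
      ∀ {o o' : R.arrows.category} (f : o ⟶ o'),
        moHom (hqc _ (D.obj o).property) (hqc _ (D.obj o').property) (fmap D f) (hcc f) ≫ m o' = m o := by
  have hJ : sv R W ∈ QuotSh.J Scheme.fpqcPrecoverage W.left (Over.mk (𝟙 W.left)) := by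
    have h0 : Sieve.overEquiv (Over.mk (𝟙 W.left)) (sv R W) = (Sieve.overEquiv V R).pullback W.hom :=
      (Sieve.overEquiv (Over.mk (𝟙 W.left))).apply_symm_apply ((Sieve.overEquiv V R).pullback W.hom)
    rw [QuotSh.J, GrothendieckTopology.mem_over_iff, h0]
    rw [QuotSh.J, GrothendieckTopology.mem_over_iff] at hR
    exact GrothendieckTopology.pullback_stable _ _ hR
  have hst : Stk.IsStack (QuotSh.J Scheme.fpqcPrecoverage W.left) (Md W.left) := isStack_md W.left le_rfl
  have hes := phi_essSurj (𝒮 := Md W.left) (𝒜 := AA R) (ℬ := Stk.sieveCat (sv R W)) (w := wF D c hc hcc)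
    (hwF D c hc hcc) hst.1 (cof D c hc hcc)
  obtain ⟨G, ⟨e⟩⟩ := hes.mem_essImage (HF D hqc c hcc)
  obtain ⟨E⟩ := K751.Test.exists_eff hst hJ G
  obtain ⟨⟨b, E, hE⟩, ι, lift, nat, hb⟩ := E
  have hb' : b = Over.mk (𝟙 W.left) := hb
  subst hb'
  refine ⟨E, hE, fun o => (e.inv.toNatTrans.app o).snd ≫ ι ((wF D c hc hcc).obj o), fun {o o'} f => ?_⟩
  have h1 : moHom (hqc _ (D.obj o).property) (hqc _ (D.obj o').property) (fmap D f) (hcc f) ≫
      (e.inv.toNatTrans.app o').snd = (e.inv.toNatTrans.app o).snd ≫ G.map ((wF D c hc hcc).map f) :=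
    congrArg (fun t => t.snd) (K751.FG.nat e.inv f)
  have h2 := nat ((wF D c hc hcc).map f)
  rw [← Category.assoc, h1, Category.assoc, h2]

end Mod

section Eff

open Groth.Agent.VecBal.K812.Iface in
open scoped K185 in
/-- Descent data along a sieve generated by an fpqc family are effective. -/
theorem exists_eff {Q : Obj S 0 → Prop} (hst : ∀ (A B : Obj S 0) (_ : A ⟶ B), Q B → Q A)
    (hqc : ∀ A, Q A → Coh.IsQCoh A.E)
    (hloc : ∀ (B : Obj S 0), Coh.IsQCoh B.E → ∀ (ι : Type u) (A : ι → Obj S 0) (φ : ∀ i, A i ⟶ B),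
      Presieve.ofArrows (fun i => (A i).base.left) (fun i => (φ i).hom.base.left) ∈
        Scheme.fpqcPrecoverage B.base.left → (∀ i, Q (A i)) → Q B)
    (heff : Effective Q) {ι : Type u} {Z : ι → Over S} (p : ∀ i, Z i ⟶ V)
    (hp : Presieve.ofArrows (fun i => (Z i).left) (fun i => (p i).left) ∈ Scheme.fpqcPrecoverage V.left)
    (D : Stk.sieveCat (Sieve.generate (Presieve.ofArrows Z p)) ⥤ᵇ AlgSt.fullSub (Fam S 0) Q) :
    Nonempty (Eff D) := by
  have hpR : ∀ i, (Sieve.generate (Presieve.ofArrows Z p)) (p i) := fun i =>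
    Sieve.le_generate _ _ _ (Presieve.ofArrows.mk i)
  have hR : Sieve.generate (Presieve.ofArrows Z p) ∈ QuotSh.J Scheme.fpqcPrecoverage S V :=
    K185.Cover.ofArrows_mem_J p hp
  -- the objects over the members of the family
  have hQ : ∀ i, Q { base := Over.mk ((p i).left ≫ V.hom), C := ((cd D).dd p hpR).obj i |>.left,
                     f := (((cd D).dd p hpR).obj i).hom, sect := Fin.elim0,
                     sect_f := fun j => j.elim0, E := (fm D (mkS (p i) (hpR i))).E } := by
    intro i
    refine hst _ (fm D (mkS (p i) (hpR i))) ?_ (D.obj (mkS (p i) (hpR i))).property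
    let e : Over.mk ((p i).left ≫ V.hom) ⟶ Z i := Over.homMk (𝟙 _) (by
      change 𝟙 _ ≫ (Z i).hom = (p i).left ≫ V.hom
      rw [Category.id_comp, Over.w (p i)])
    have he : IsIso (e ≫ eqToHom (fm_base D (mkS (p i) (hpR i))).symm).left := by
      have h1 : IsIso e.left := inferInstanceAs (IsIso (𝟙 _))
      have h2 : IsIso (eqToHom (fm_base D (mkS (p i) (hpR i))).symm).left :=
        inferInstanceAs (IsIso ((Over.forget S).map (eqToHom (fm_base D (mkS (p i) (hpR i))).symm)))
      exact IsIso.comp_isIso' h1 h2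
    exact
      { hom :=
          { base := e ≫ eqToHom (fm_base D (mkS (p i) (hpR i))).symm
            top := 𝟙 _
            cart := IsPullback.of_horiz_isIso ⟨by
              have h1 : (eb D (mkS (p i) (hpR i))).left ≫ (eqToHom (fm_base D (mkS (p i) (hpR i))).symm).left =
                  𝟙 _ := by
                rw [← Over.comp_left, eqToHom_trans, eqToHom_refl]
                rfl
              change 𝟙 _ ≫ (fm D (mkS (p i) (hpR i))).f = ((fm D (mkS (p i) (hpR i))).f ≫
                (eb D (mkS (p i) (hpR i))).left) ≫ 𝟙 _ ≫ (eqToHom (fm_base D (mkS (p i) (hpR i))).symm).left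
              rw [Category.id_comp, Category.id_comp, Category.assoc, h1]
              exact (Category.comp_id _).symm⟩
            w_sect := fun j => j.elim0 }
        c := (Scheme.Modules.pushforwardId _).inv.app _
        cart := isCart_id _ }
  have hE := heff V.left V.hom ι (fun i => (Z i).left) (fun i => (p i).left) hp ((cd D).dd p hpR)
    (fun i => (fm D (mkS (p i) (hpR i))).E) hQ (fun T i j x₀ x₁ h P t v sq => by
      exact nonempty_iso_tr D (o := mkS (p i) (hpR i)) v (mkS (p j) (hpR j)) (t ≫ x₁) _)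
  obtain ⟨W, c, hc, hcc⟩ := (cd D).exists_total p hpR hE
  obtain ⟨E, hE, m, hm⟩ := exists_mod D hqc c hc hcc hR
  have hm' : ∀ o, (m o).base.left = c o := fun o => (Category.comp_id _).symm.trans (Over.w (m o).base)
  let B : Obj S 0 := { base := V, C := W.left, f := W.hom, sect := Fin.elim0, sect_f := fun j => j.elim0, E := E }
  have i1 : ∀ o, IsIso (eb D o).left := fun o => inferInstanceAs (IsIso ((Over.forget S).map (eb D o)))
  let ι' : ∀ o, fm D o ⟶ B := fun o =>
    { hom :=
        { base := eb D o ≫ o.obj.hom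
          top := (m o).base.left
          cart := by
            rw [hm']
            refine IsPullback.of_iso (hc o) (Iso.refl _) (Iso.refl _) (asIso (eb D o).left).symm (Iso.refl _)
              ?_ ?_ ?_ ?_
            · simp
            · have h1 : (cd D).q o = (fm D o).f ≫ (eb D o).left := rfl
              simp [h1]
            · exact (Category.comp_id _).trans (Category.id_comp _).symm
            · have h1 : (eb D o ≫ o.obj.hom).left = (eb D o).left ≫ TotDesc.hm o := rfl
              simp [h1]
          w_sect := fun j => j.elim0 }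
      c := (m o).c
      cart := (m o).cart }
  have hB : Q B := by
    refine hloc B hE ι (fun i => fm D (mkS (p i) (hpR i))) (fun i => ι' (mkS (p i) (hpR i))) ?_
      (fun i => (D.obj (mkS (p i) (hpR i))).property)
    refine Precoverage.mem_coverings_of_isPullback _ hp (𝟙 _) _ (fun i => (eb D (mkS (p i) (hpR i))).left)
      (fun i => ?_)
    have := i1 (mkS (p i) (hpR i))
    exact IsPullback.of_vert_isIso ⟨rfl⟩
  refine ⟨⟨⟨B, hB⟩, fun o => ObjectProperty.homMk (ι' o), fun o => ?_, fun {o o'} f => ?_, rfl⟩⟩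
  · refine IsHomLift.of_fac' (AlgSt.fullSub (Fam S 0) Q).p o.obj.hom _ (fm_base D o) rfl ?_
    change eb D o ≫ o.obj.hom = _
    simp
  · apply ObjectProperty.hom_ext
    refine ext_mo (X := W.left) (g := c o) (g' := 𝟙 _) (hqc _ (D.obj o).property) hE ?_ ?_ ?_ ?_
    · change (fmap D f).hom.base ≫ eb D o' ≫ o'.obj.hom = eb D o ≫ o.obj.hom
      rw [← Category.assoc, fmap_base, Category.assoc]
      exact congrArg (fun z => eb D o ≫ z) (Over.w f.hom)
    · change ((fmap D f).hom.top ≫ (m o').base.left) ≫ 𝟙 _ = c o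
      rw [Category.comp_id, hm']
      exact hcc f
    · change (m o).base.left ≫ 𝟙 _ = c o
      rw [Category.comp_id, hm']
    · exact hm f

end Eff

end K787.FamEff
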