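import Groth.Prelude.Def_VecSt
import Groth.Agent.ModSt.K927.MdPre

/-!
# Families of schemes with a module on the total space: base change, unique factorisation, fibred in groupoids

* `pull A f sq`, `pullHom` : the base change of `A` along a cartesian square; `bc`, `bcHom`.
* `existsUnique_lift` : unique factorisation of morphisms of `VecSt.Obj S n`.
* `isFibGrpd_fam`, `isFibGrpd_sub`.
* `mo A hA g`, `moHom` : the module of a family as an object of `K927.ModSt.Md X` for `g : A.C ⟶ X`.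
-/

set_option autoImplicit false
universe u

open CategoryTheory CategoryTheory.Limits AlgebraicGeometry Opposite ModSt K927.ModSt VecSt

noncomputable section

namespace K787.FamFib

variable {S : Scheme.{u}} {n : ℕ}

/-- Extensionality of morphisms. -/
theorem hom_ext' {A B : Obj S n} {φ ψ : A ⟶ B} (hb : φ.hom.base = ψ.hom.base) (ht : φ.hom.top = ψ.hom.top)
    (hc : φ.c ≫ (Scheme.Modules.pushforwardCongr ht).hom.app A.E = ψ.c) : φ = ψ := by
  obtain ⟨⟨b, t, hcart, hs⟩, c, hcc⟩ := φ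
  obtain ⟨⟨b', t', hcart', hs'⟩, c', hcc'⟩ := ψ
  cases hb
  cases ht
  have h1 : c = c' := by
    refine Eq.trans ?_ hc
    dsimp only
    rw [pushforwardCongr_rfl_app]
    exact (Category.comp_id _).symm
  cases h1
  rfl

/-- The comparison maps of equal morphisms. -/
theorem c_congr {A B : Obj S n} {φ ψ : A ⟶ B} (h : φ = ψ) :
    φ.c ≫ (Scheme.Modules.pushforwardCongr (congrArg (fun t : A ⟶ B => t.hom.top) h)).hom.app A.E = ψ.c := by
  subst h
  rw [pushforwardCongr_rfl_app, Category.comp_id]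

section pull

variable (A : Obj S n) {V : Over S} (f : V ⟶ A.base) {P : Scheme.{u}} {a : P ⟶ A.C} {b : P ⟶ V.left}
    (sq : IsPullback a b A.f f.left)

/-- The base change of a family along a cartesian square. -/
abbrev pull : Obj S n where
  base := V
  C := P
  f := b
  sect i := sq.lift (f.left ≫ A.sect i) (𝟙 _) (by
    rw [Category.assoc, A.sect_f, Category.comp_id, Category.id_comp])
  sect_f i := sq.lift_snd _ _ _
  E := (Scheme.Modules.pullback a).obj A.E

/-- The projection of the base change. -/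
def pullHom : pull A f sq ⟶ A where
  hom :=
    { base := f
      top := a
      cart := sq
      w_sect := fun i => sq.lift_fst _ _ _ }
  c := (Scheme.Modules.pullbackPushforwardAdjunction a).unit.app A.E
  cart := isCart_unit a A.E

theorem pullHom_base : (pullHom A f sq).hom.base = f := rfl
theorem pullHom_top : (pullHom A f sq).hom.top = a := rfl
theorem pull_base : (pull A f sq).base = V := rfl
theorem pull_C : (pull A f sq).C = P := rfl

end pull

/-- The base change. -/
abbrev bc (A : Obj S n) {V : Over S} (f : V ⟶ A.base) : Obj S n :=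
  pull A f (IsPullback.of_hasPullback A.f f.left)

/-- The projection of the base change. -/
abbrev bcHom (A : Obj S n) {V : Over S} (f : V ⟶ A.base) : bc A f ⟶ A :=
  pullHom A f (IsPullback.of_hasPullback A.f f.left)

theorem hom_w {A B : Obj S n} (φ : A ⟶ B) : φ.hom.top ≫ B.f = A.f ≫ φ.hom.base.left := φ.hom.cart.w

/-- Unique factorisation of morphisms of families. -/
theorem existsUnique_lift {A B D : Obj S n} (φ : B ⟶ A) (ψ : D ⟶ A) (g : D.base ⟶ B.base)
    (hg : g ≫ φ.hom.base = ψ.hom.base) : ∃! χ : D ⟶ B, χ.hom.base = g ∧ χ ≫ φ = ψ := by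
  have hsq := φ.hom.cart
  have hgl : g.left ≫ φ.hom.base.left = ψ.hom.base.left := congrArg CommaMorphism.left hg
  let t : D.C ⟶ B.C := hsq.lift ψ.hom.top (D.f ≫ g.left) (by
    rw [Category.assoc, hgl]; exact hom_w ψ)
  have ht1 : t ≫ φ.hom.top = ψ.hom.top := hsq.lift_fst _ _ _
  have ht2 : t ≫ B.f = D.f ≫ g.left := hsq.lift_snd _ _ _
  let c' : A.E ⟶ (Scheme.Modules.pushforward (t ≫ φ.hom.top)).obj D.E :=
    ψ.c ≫ (Scheme.Modules.pushforwardCongr ht1.symm).hom.app D.E
  have hc' : IsCart (t ≫ φ.hom.top) c' := ψ.cart.congr ht1.symm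
  obtain ⟨v, hv⟩ := (φ.cart ((Scheme.Modules.pushforward t).obj D.E)).2
    (c' ≫ (Scheme.Modules.pushforwardComp t φ.hom.top).inv.app D.E)
  dsimp only at hv
  have hv' : φ.c ≫ (Scheme.Modules.pushforward φ.hom.top).map v ≫
      (Scheme.Modules.pushforwardComp t φ.hom.top).hom.app D.E = c' := by
    rw [reassoc_of% hv]
    simp
  have hcart : IsCart t v := isCart_of_comp φ.cart (by rw [hv']; exact hc')
  have hcart0 : IsPullback t D.f B.f g.left := by
    refine IsPullback.of_right (h₁₂ := φ.hom.top) (h₂₂ := φ.hom.base.left) (v₁₃ := A.f) ?_ ht2 hsq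
    rw [ht1, hgl]
    exact ψ.hom.cart
  let χ : D ⟶ B := ⟨⟨g, t, hcart0, fun i => by
    apply hsq.hom_ext
    · rw [Category.assoc, ht1, ψ.hom.w_sect, Category.assoc, φ.hom.w_sect, ← Category.assoc, hgl]
    · rw [Category.assoc, ht2, ← Category.assoc, D.sect_f, Category.id_comp, Category.assoc, B.sect_f,
        Category.comp_id]⟩, v, hcart⟩
  have hχ : χ ≫ φ = ψ := by
    refine hom_ext' hg ht1 ?_
    have h1 : (χ ≫ φ).c = c' := hv'
    exact (congrArg (· ≫ (Scheme.Modules.pushforwardCongr ht1).hom.app D.E) h1).trans (congr_comp ψ.c _ _)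
  refine ⟨χ, ⟨rfl, hχ⟩, ?_⟩
  rintro χ' ⟨h1, h2⟩
  have ht : χ'.hom.top = t := by
    apply hsq.hom_ext
    · rw [ht1, ← h2]; rfl
    · rw [ht2, ← h1]; exact hom_w χ'
  refine hom_ext' h1 ht ?_
  apply (φ.cart _).1
  dsimp only
  refine Eq.trans ?_ hv.symm
  obtain ⟨⟨b', t', hcart', hs'⟩, v', hcart''⟩ := χ'
  dsimp only at ht
  subst ht
  dsimp only
  rw [pushforwardCongr_rfl_app, Category.comp_id]
  refine (Iso.eq_comp_inv ((Scheme.Modules.pushforwardComp t φ.hom.top).app D.E)).2 ?_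
  have h3 := c_congr h2.symm
  refine Eq.trans ?_ h3.symm
  exact Category.assoc _ _ _

/-- Every morphism of families is strongly cartesian. -/
theorem isStronglyCartesian {B A : Obj S n} (φ : B ⟶ A) :
    (Obj.forget S n).IsStronglyCartesian ((Obj.forget S n).map φ) φ where
  universal_property' := fun {D} g ψ hψ => by
    have hg : g ≫ φ.hom.base = ψ.hom.base :=
      IsHomLift.eq_of_isHomLift (Obj.forget S n) (g ≫ (Obj.forget S n).map φ) ψ
    obtain ⟨χ, ⟨h1, h2⟩, h3⟩ := existsUnique_lift φ ψ g hg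
    refine ⟨χ, ⟨?_, h2⟩, ?_⟩
    · subst h1
      exact IsHomLift.map (Obj.forget S n) χ
    · rintro χ' ⟨hχ', h4⟩
      exact h3 χ' ⟨(IsHomLift.eq_of_isHomLift (Obj.forget S n) g χ').symm, h4⟩

variable (S n) in
/-- Families with a module are fibred in groupoids. -/
theorem isFibGrpd_fam : FibCat.IsFibGrpd (Fam S n).p where
  exists_lift := fun {A} {V} f => ⟨bc A f, bcHom A f, IsHomLift.map (Obj.forget S n) (bcHom A f)⟩
  isStronglyCartesian := fun {B A} φ => isStronglyCartesian φ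

/-- A full subcategory stable under base change is fibred in groupoids. -/
theorem isFibGrpd_sub {Q : Obj S n → Prop} (hQ : ∀ (A B : Obj S n) (_ : A ⟶ B), Q B → Q A) :
    FibCat.IsFibGrpd (AlgSt.fullSub (Fam S n) Q).p :=
  K751.FF.isFibGrpd_sub (𝒳 := Fam S n) (Q := Q) (isFibGrpd_fam S n) fun y x φ hx =>
    ⟨y, Iso.refl _, hQ y x φ hx, IsHomLift.id rfl⟩

/-! ### the module of a family as an object of `Md X` -/

section mo

variable {X : Scheme.{u}}

/-- The module of a family as an object of `Md X`. -/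
abbrev mo (A : Obj S n) (hA : Coh.IsQCoh A.E) (g : A.C ⟶ X) : MObj X := ⟨Over.mk g, A.E, hA⟩

/-- A morphism of families as a morphism of `Md X`. -/
def moHom {A B : Obj S n} (hA : Coh.IsQCoh A.E) (hB : Coh.IsQCoh B.E) {g : A.C ⟶ X} {g' : B.C ⟶ X}
    (φ : A ⟶ B) (w : φ.hom.top ≫ g' = g) : mo A hA g ⟶ mo B hB g' where
  base := Over.homMk φ.hom.top w
  c := φ.c
  cart := φ.cart

theorem moHom_base {A B : Obj S n} (hA : Coh.IsQCoh A.E) (hB : Coh.IsQCoh B.E) {g : A.C ⟶ X} {g' : B.C ⟶ X}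
    (φ : A ⟶ B) (w : φ.hom.top ≫ g' = g) : (moHom hA hB φ w).base = Over.homMk φ.hom.top w := rfl

theorem moHom_base_left {A B : Obj S n} (hA : Coh.IsQCoh A.E) (hB : Coh.IsQCoh B.E) {g : A.C ⟶ X} {g' : B.C ⟶ X}
    (φ : A ⟶ B) (w : φ.hom.top ≫ g' = g) : (moHom hA hB φ w).base.left = φ.hom.top := rfl

theorem moHom_comp {A B D : Obj S n} (hA : Coh.IsQCoh A.E) (hB : Coh.IsQCoh B.E) (hD : Coh.IsQCoh D.E)
    {g : A.C ⟶ X} {g' : B.C ⟶ X} {g'' : D.C ⟶ X} (φ : A ⟶ B) (w : φ.hom.top ≫ g' = g) (ψ : B ⟶ D)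
    (w' : ψ.hom.top ≫ g'' = g') (w'' : (φ ≫ ψ).hom.top ≫ g'' = g) :
    moHom hA hD (φ ≫ ψ) w'' = moHom hA hB φ w ≫ moHom hB hD ψ w' := rfl

theorem moHom_congr {A B : Obj S n} (hA : Coh.IsQCoh A.E) (hB : Coh.IsQCoh B.E) {g : A.C ⟶ X} {g' : B.C ⟶ X}
    {φ ψ : A ⟶ B} (w : φ.hom.top ≫ g' = g) (w' : ψ.hom.top ≫ g' = g) (h : φ = ψ) :
    moHom hA hB φ w = moHom hA hB ψ w' := by
  subst h
  rfl

/-- Morphisms of families are determined by the base and the morphism of modules. -/
theorem ext_mo {A B : Obj S n} (hA : Coh.IsQCoh A.E) (hB : Coh.IsQCoh B.E) {g : A.C ⟶ X} {g' : B.C ⟶ X}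
    {φ ψ : A ⟶ B} (hb : φ.hom.base = ψ.hom.base) (w : φ.hom.top ≫ g' = g) (w' : ψ.hom.top ≫ g' = g)
    (h : moHom hA hB φ w = moHom hA hB ψ w') : φ = ψ := by
  have ht : φ.hom.top = ψ.hom.top := congrArg (fun t => t.base.left) h
  refine hom_ext' hb ht ?_
  exact md_c_congr h

end mo

end K787.FamFib
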