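import Groth.Agent.VecBal.K787.FamFib
import Groth.Agent.AlgSt.K750.Cone
import Groth.Agent.GrpQ.K185.Inst
import Groth.Agent.GrpQ.K185.Cover
import Groth.Agent.CohqB.LocalQC
import Mathlib.AlgebraicGeometry.Sites.Fpqc

/-!
# Gluing of morphisms of families with a module along fpqc families

* `ext_fpqc`, `exists_glue_fpqc`, `isPullback_of_fpqc` : morphisms of schemes and fpqc families.
* `sep`, `exists_glue` : morphisms of `VecSt.Obj S n` are determined by, and glue along, fpqc families of the base.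
* `isPrestack_sub` : full subcategories of `VecSt.Fam S n` stable under base change, with quasi-coherent modules, are prestacks.
-/

set_option autoImplicit false
set_option backward.isDefEq.respectTransparency false
set_option backward.isDefEq.respectTransparency.types false
universe v u

open CategoryTheory CategoryTheory.Limits AlgebraicGeometry Opposite ModSt K927.ModSt VecSt K787.FamFib

noncomputable section

namespace K787.FamPre

section Sch

variable {ι : Type v} {T : Scheme.{u}} {Y : ι → Scheme.{u}} (u : ∀ i, Y i ⟶ T)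
  (hu : Presieve.ofArrows Y u ∈ Scheme.fpqcPrecoverage T)

include hu in
theorem isSheafFor (Z : Scheme.{u}) : (Presieve.ofArrows Y u).IsSheafFor (yoneda.obj Z) := by
  have h : Presieve.IsSheafFor (yoneda.obj Z) (Sieve.generate (Presieve.ofArrows Y u)).arrows :=
    GrothendieckTopology.Subcanonical.isSheaf_of_isRepresentable (J := Scheme.fpqcTopology) (yoneda.obj Z) _
      (Precoverage.generate_mem_toGrothendieck hu)
  exact (Presieve.isSheafFor_iff_generate _).2 h

include hu in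
/-- Morphisms to a scheme are determined on an fpqc family. -/
theorem ext_fpqc {Z : Scheme.{u}} {a b : T ⟶ Z} (h : ∀ i, u i ≫ a = u i ≫ b) : a = b := by
  have h1 := isSheafFor u hu Z
  rw [Presieve.isSheafFor_arrows_iff] at h1
  obtain ⟨n, -, h2⟩ := h1 (fun i => u i ≫ b) (fun i j W g g' e => by
    change g ≫ u i ≫ b = g' ≫ u j ≫ b
    rw [← Category.assoc, e, Category.assoc])
  exact (h2 a h).trans (h2 b fun _ => rfl).symm

include hu in
/-- Morphisms to a scheme glue along an fpqc family. -/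
theorem exists_glue_fpqc {Z : Scheme.{u}} (x : ∀ i, Y i ⟶ Z)
    (hx : ∀ (i j : ι) (W : Scheme.{u}) (g : W ⟶ Y i) (g' : W ⟶ Y j), g ≫ u i = g' ≫ u j → g ≫ x i = g' ≫ x j) :
    ∃ n : T ⟶ Z, ∀ i, u i ≫ n = x i := by
  have h1 := isSheafFor u hu Z
  rw [Presieve.isSheafFor_arrows_iff] at h1
  obtain ⟨n, h2, -⟩ := h1 x (fun i j W g g' e => hx i j W g g' e)
  exact ⟨n, h2⟩

include hu in
/-- A square is cartesian if it is so on the members of an fpqc family. -/
theorem isPullback_of_fpqc {W Y' B : Scheme.{u}} (w : W ⟶ T) {q : Y' ⟶ B} {g : T ⟶ B} (n : W ⟶ Y')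
    (h : ∀ i, IsPullback (pullback.fst w (u i) ≫ n) (pullback.snd w (u i)) q (u i ≫ g)) :
    IsPullback n w q g := by
  refine (K750.Cone.pullCov (Sieve.generate (Presieve.ofArrows Y u)) w).isPullback (J := Scheme.fpqcTopology)
    (Precoverage.generate_mem_toGrothendieck hu) n ?_
  intro o
  obtain ⟨Z, h', g', ⟨i⟩, e⟩ := o.property
  change IsPullback (pullback.fst w o.obj.hom ≫ n) (pullback.snd w o.obj.hom) q (o.obj.hom ≫ g)
  have e' : h' ≫ u i = o.obj.hom := e
  let m : pullback w o.obj.hom ⟶ pullback w (u i) :=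
    pullback.lift (pullback.fst _ _) (pullback.snd _ _ ≫ h') (by rw [Category.assoc, e', pullback.condition])
  have hm1 : m ≫ pullback.fst w (u i) = pullback.fst w o.obj.hom := pullback.lift_fst _ _ _
  have hm2 : m ≫ pullback.snd w (u i) = pullback.snd w o.obj.hom ≫ h' := pullback.lift_snd _ _ _
  have h1 : IsPullback m (pullback.snd w o.obj.hom) (pullback.snd w (u i)) h' := by
    refine IsPullback.of_right (h₁₂ := pullback.fst w (u i)) (h₂₂ := u i) (v₁₃ := w) ?_ hm2
      (IsPullback.of_hasPullback w (u i))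
    rw [hm1, e']
    exact IsPullback.of_hasPullback w o.obj.hom
  have h2 := h1.paste_horiz (h i)
  rw [← Category.assoc, hm1, ← Category.assoc, e'] at h2
  exact h2

end Sch

variable {S : Scheme.{u}} {n : ℕ}

/-- Quasi-coherence is stable under base change. -/
theorem isQCoh_of_hom {A B : Obj S n} (φ : A ⟶ B) (hB : Coh.IsQCoh B.E) : Coh.IsQCoh A.E := by
  obtain ⟨e⟩ := nonempty_iso_pullback φ.cart
  exact Groth.Agent.CohqB.LocalQC.isQCoh_of_iso e
    (Groth.Agent.VarietyB.PullSec.isQCoh_pullback φ.hom.top B.E hB)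

/-- The family of total spaces over an fpqc family of bases. -/
theorem mem_top {ι : Type v} {A : Obj S n} (W : ι → Obj S n) (β : ∀ i, W i ⟶ A)
    (hβ : Presieve.ofArrows (fun i => (W i).base.left) (fun i => (β i).hom.base.left) ∈
      Scheme.fpqcPrecoverage A.base.left) :
    Presieve.ofArrows (fun i => (W i).C) (fun i => (β i).hom.top) ∈ Scheme.fpqcPrecoverage A.C :=
  Precoverage.mem_coverings_of_isPullback _ hβ A.f _ (fun i => (W i).f) (fun i => (β i).hom.cart)

/-- Morphisms of families are determined on an fpqc family. -/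
theorem sep {ι : Type v} {A B : Obj S n} (hA : Coh.IsQCoh A.E) (hB : Coh.IsQCoh B.E) (W : ι → Obj S n)
    (β : ∀ i, W i ⟶ A)
    (hβ : Presieve.ofArrows (fun i => (W i).base.left) (fun i => (β i).hom.base.left) ∈
      Scheme.fpqcPrecoverage A.base.left) {χ χ' : A ⟶ B} (hb : χ.hom.base = χ'.hom.base)
    (h : ∀ i, β i ≫ χ = β i ≫ χ') : χ = χ' := by
  have hβ' := mem_top W β hβ
  have ht : χ.hom.top = χ'.hom.top := ext_fpqc _ hβ' fun i => congrArg (fun t : W i ⟶ B => t.hom.top) (h i)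
  refine ext_mo hA hB (g := χ.hom.top) (g' := 𝟙 _) hb (Category.comp_id _) ((Category.comp_id _).trans ht.symm) ?_
  have hW : ∀ i, Coh.IsQCoh (W i).E := fun i => isQCoh_of_hom (β i) hA
  refine K927.ModSt.sep (fun i => mo (W i) (hW i) ((β i).hom.top ≫ χ.hom.top))
    (fun i => moHom (hW i) hA (β i) rfl) hβ' (Over.OverMorphism.ext ht) fun i => ?_
  exact moHom_congr (hW i) hB (φ := β i ≫ χ) (ψ := β i ≫ χ') (g' := 𝟙 _) (Category.comp_id _)
    (by
      change (β i ≫ χ').hom.top ≫ 𝟙 _ = _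
      rw [← h i, Category.comp_id]) (h i)


section test

variable (A : Obj S n) {W : Scheme.{u}} (t : W ⟶ A.C)

/-- The base of the test object attached to a point of the total space. -/
def tV : Over S := Over.mk (t ≫ A.f ≫ A.base.hom)

/-- Its morphism to the base. -/
def tf : tV A t ⟶ A.base := Over.homMk (t ≫ A.f) (by
  change (t ≫ A.f) ≫ A.base.hom = t ≫ A.f ≫ A.base.hom
  rw [Category.assoc])

theorem tf_left : (tf A t).left = t ≫ A.f := rfl

/-- The point of the base change. -/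
def ts : W ⟶ pullback A.f (tf A t).left :=
  pullback.lift t (𝟙 W) (by rw [tf_left]; exact (Category.id_comp _).symm)

theorem ts_fst : ts A t ≫ pullback.fst A.f (tf A t).left = t := pullback.lift_fst _ _ _

theorem ts_snd : ts A t ≫ pullback.snd A.f (tf A t).left = 𝟙 W := pullback.lift_snd _ _ _

variable {A t} {V : Over S} (p : V ⟶ A.base) (g : W ⟶ pullback A.f p.left) (hg : g ≫ pullback.fst A.f p.left = t)

include hg in
theorem exists_tk : ∃ k : tV A t ⟶ V, k.left = g ≫ pullback.snd A.f p.left ∧ k ≫ p = tf A t := by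
  have h1 : (g ≫ pullback.snd A.f p.left) ≫ p.left = t ≫ A.f := by
    rw [Category.assoc, ← pullback.condition, ← Category.assoc, hg]
  refine ⟨Over.homMk (g ≫ pullback.snd A.f p.left) ?_, rfl, Over.OverMorphism.ext h1⟩
  change (g ≫ pullback.snd A.f p.left) ≫ V.hom = t ≫ A.f ≫ A.base.hom
  rw [← Over.w p, ← Category.assoc, h1, Category.assoc]

include hg in
/-- The comparison morphism of the test object with a base change through which the point factors. -/
theorem exists_tχ : ∃ χ : bc A (tf A t) ⟶ bc A p, χ ≫ bcHom A p = bcHom A (tf A t) ∧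
    χ.hom.top ≫ pullback.fst A.f p.left = pullback.fst A.f (tf A t).left ∧
    χ.hom.base.left = g ≫ pullback.snd A.f p.left ∧ ts A t ≫ χ.hom.top = g := by
  obtain ⟨k, hk, hk'⟩ := exists_tk p g hg
  obtain ⟨χ, ⟨h1, h2⟩, -⟩ := existsUnique_lift (bcHom A p) (bcHom A (tf A t)) k hk'
  have h3 : χ.hom.top ≫ pullback.fst A.f p.left = pullback.fst A.f (tf A t).left :=
    congrArg (fun t : bc A (tf A _) ⟶ A => t.hom.top) h2
  have h4 : χ.hom.top ≫ pullback.snd A.f p.left = pullback.snd A.f (tf A t).left ≫ χ.hom.base.left := hom_w χ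
  have h5 : χ.hom.base.left = g ≫ pullback.snd A.f p.left := by
    rw [h1, hk]
  refine ⟨χ, h2, h3, h5, ?_⟩
  apply pullback.hom_ext
  · rw [Category.assoc, h3, ts_fst, hg]
  · rw [Category.assoc, h4, ← Category.assoc, ts_snd, Category.id_comp, h5]

end test

/-- Morphisms of families glue along an fpqc family. -/
theorem exists_glue {ι : Type u} {A B : Obj S n} (hA : Coh.IsQCoh A.E) (hB : Coh.IsQCoh B.E) {Z : ι → Over S}
    (p : ∀ i, Z i ⟶ A.base)
    (hp : Presieve.ofArrows (fun i => (Z i).left) (fun i => (p i).left) ∈ Scheme.fpqcPrecoverage A.base.left)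
    (g : A.base ⟶ B.base) (φ : ∀ i, bc A (p i) ⟶ B) (hφ : ∀ i, (φ i).hom.base = p i ≫ g)
    (H : ∀ (W : Obj S n) (i j : ι) (b : W ⟶ bc A (p i)) (b' : W ⟶ bc A (p j)),
      b ≫ bcHom A (p i) = b' ≫ bcHom A (p j) → b ≫ φ i = b' ≫ φ j) :
    ∃ ψ : A ⟶ B, ψ.hom.base = g ∧ ∀ i, bcHom A (p i) ≫ ψ = φ i := by
  have hp' : Presieve.ofArrows (fun i => (bc A (p i)).C) (fun i => pullback.fst A.f (p i).left) ∈
      Scheme.fpqcPrecoverage A.C := mem_top (fun i => bc A (p i)) (fun i => bcHom A (p i)) hp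
  -- the morphism of total spaces
  obtain ⟨m, hm⟩ := exists_glue_fpqc (fun i => pullback.fst A.f (p i).left) hp' (Z := B.C) (fun i => (φ i).hom.top)
    (fun i j W gi gj e => by
      obtain ⟨χi, h1, -, -, h2⟩ := exists_tχ (t := gi ≫ pullback.fst A.f (p i).left) (p i) gi rfl
      obtain ⟨χj, h3, -, -, h4⟩ := exists_tχ (t := gi ≫ pullback.fst A.f (p i).left) (p j) gj e.symm
      have h5 := H _ i j χi χj (h1.trans h3.symm)
      have h6 : χi.hom.top ≫ (φ i).hom.top = χj.hom.top ≫ (φ j).hom.top :=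
        congrArg (fun t : bc A (tf A _) ⟶ B => t.hom.top) h5
      have h7 := congrArg (fun z => ts A (gi ≫ pullback.fst A.f (p i).left) ≫ z) h6
      dsimp only at h7
      rw [← Category.assoc, ← Category.assoc, h2, h4] at h7
      exact h7)
  -- the square is cartesian
  have hcart : IsPullback m A.f B.f g.left := by
    refine isPullback_of_fpqc (fun i => (p i).left) hp A.f m fun i => ?_
    rw [hm i]
    have h1 := (φ i).hom.cart
    rw [hφ i] at h1
    exact h1
  have hsec : ∀ l, A.sect l ≫ m = g.left ≫ B.sect l := by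
    intro l
    refine ext_fpqc (fun i => (p i).left) hp fun i => ?_
    have h1 : (bc A (p i)).sect l ≫ pullback.fst A.f (p i).left = (p i).left ≫ A.sect l :=
      (bcHom A (p i)).hom.w_sect l
    have h2 : (bc A (p i)).sect l ≫ (φ i).hom.top = (φ i).hom.base.left ≫ B.sect l := (φ i).hom.w_sect l
    have h3 : (φ i).hom.base.left = (p i).left ≫ g.left := by rw [hφ i]; rfl
    rw [← hm i, ← Category.assoc, h1, h3, Category.assoc, Category.assoc] at h2
    exact h2
  -- the comparison map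
  have hw : ∀ i, (φ i).hom.top ≫ 𝟙 B.C = pullback.fst A.f (p i).left ≫ m := fun i => by
    rw [Category.comp_id, hm i]
  have hAi : ∀ i, Coh.IsQCoh (bc A (p i)).E := fun i => isQCoh_of_hom (bcHom A (p i)) hA
  let c : ∀ i, (Over.mk (pullback.fst A.f (p i).left ≫ m) : Over B.C) ⟶ (mo A hA m).base := fun i =>
    Over.homMk (pullback.fst A.f (p i).left) rfl
  let ψ' : ∀ i, bcM (mo A hA m) (c i) ⟶ mo B hB (𝟙 B.C) := fun i =>
    moHom (hAi i) hB (g := pullback.fst A.f (p i).left ≫ m) (g' := 𝟙 B.C) (φ i) (hw i)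
  have key : ∀ (W : MObj B.C) (t : W.base.left ⟶ A.C) (ht : t ≫ m = W.base.hom)
      (hz : Coh.IsQCoh (bc A (tf A t)).E)
      (s : W ⟶ mo (bc A (tf A t)) hz (pullback.fst A.f (tf A t).left ≫ m)) (_ : s.base.left = ts A t)
      (l : ι) (b : W ⟶ bcM (mo A hA m) (c l))
      (_ : b ≫ bcMHom (mo A hA m) (c l) = s ≫ moHom hz hA (bcHom A (tf A t)) rfl)
      (χ : bc A (tf A t) ⟶ bc A (p l)) (_ : χ ≫ bcHom A (p l) = bcHom A (tf A t))
      (_ : ts A t ≫ χ.hom.top = b.base.left)
      (w : χ.hom.top ≫ pullback.fst A.f (p l).left ≫ m = pullback.fst A.f (tf A t).left ≫ m),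
      s ≫ moHom hz (hAi l) χ w = b := by
    intro W t ht hz s hs l b hb χ h2 h5 w
    have e1 : (s ≫ moHom hz (hAi l) χ w).base = b.base := by
      apply Over.OverMorphism.ext
      change s.base.left ≫ χ.hom.top = b.base.left
      rw [hs, h5]
    refine (md_existsUnique_lift (bcMHom (mo A hA m) (c l)) (s ≫ moHom hz hA (bcHom A (tf A t)) rfl)
      b.base ?_).unique ⟨e1, ?_⟩ ⟨rfl, hb⟩
    · exact congrArg (fun z : W ⟶ mo A hA m => z.base) hb
    · rw [Category.assoc]
      congr 1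
      exact moHom_congr hz hA (g' := m) (φ := χ ≫ bcHom A (p l)) (ψ := bcHom A (tf A t)) w rfl h2
  obtain ⟨ψ, hψ1, hψ2⟩ := K927.ModSt.exists_glue (mo A hA m) (mo B hB (𝟙 B.C)) c hp'
    (Over.homMk m (Category.comp_id _)) ψ' (fun i => Over.OverMorphism.ext (hm i).symm) (by
      intro W i j b b' hbb
      have hbt : b.base.left ≫ pullback.fst A.f (p i).left = b'.base.left ≫ pullback.fst A.f (p j).left :=
        congrArg (fun z : W ⟶ mo A hA m => z.base.left) hbb
      obtain ⟨t, ht⟩ : ∃ t : W.base.left ⟶ A.C, t = b.base.left ≫ pullback.fst A.f (p i).left := ⟨_, rfl⟩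
      obtain ⟨χi, h1, h1', -, h2⟩ := exists_tχ (t := t) (p i) b.base.left ht.symm
      obtain ⟨χj, h3, h3', -, h4⟩ := exists_tχ (t := t) (p j) b'.base.left (hbt.symm.trans ht.symm)
      have hz : Coh.IsQCoh (bc A (tf A t)).E := isQCoh_of_hom (bcHom A (tf A t)) hA
      have htm : t ≫ m = W.base.hom := by
        rw [ht, Category.assoc]
        exact Over.w b.base
      let z : MObj B.C := mo (bc A (tf A t)) hz (pullback.fst A.f (tf A t).left ≫ m)
      let σ : W.base ⟶ z.base := Over.homMk (ts A t) (by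
          change ts A t ≫ pullback.fst A.f (tf A t).left ≫ m = W.base.hom
          rw [← Category.assoc, ts_fst, htm])
      obtain ⟨s, ⟨hs1, hs2⟩, -⟩ := md_existsUnique_lift (B := z) (moHom hz hA (bcHom A (tf A t)) rfl)
        (b ≫ bcMHom (mo A hA m) (c i)) σ (by
          apply Over.OverMorphism.ext
          exact (ts_fst A t).trans ht)
      have hs : s.base.left = ts A t := congrArg CommaMorphism.left hs1
      have w1 : χi.hom.top ≫ pullback.fst A.f (p i).left ≫ m = pullback.fst A.f (tf A t).left ≫ m := by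
        rw [← Category.assoc, h1']
      have w2 : χj.hom.top ≫ pullback.fst A.f (p j).left ≫ m = pullback.fst A.f (tf A t).left ≫ m := by
        rw [← Category.assoc, h3']
      have e1 := key W t htm hz s hs i b hs2.symm χi h1 h2 w1
      have e2 := key W t htm hz s hs j b' (hbb.symm.trans hs2.symm) χj h3 h4 w2
      have h5 := H _ i j χi χj (h1.trans h3.symm)
      have h6 : moHom hz (hAi i) χi w1 ≫ ψ' i = moHom hz (hAi j) χj w2 ≫ ψ' j := by
        refine moHom_congr hz hB (g' := 𝟙 B.C) (φ := χi ≫ φ i) (ψ := χj ≫ φ j) ?_ ?_ h5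
        · change (χi.hom.top ≫ (φ i).hom.top) ≫ 𝟙 _ = _
          rw [Category.assoc, hw i, w1]
        · change (χj.hom.top ≫ (φ j).hom.top) ≫ 𝟙 _ = _
          rw [Category.assoc, hw j, w2]
      calc b ≫ ψ' i = (s ≫ moHom hz (hAi i) χi w1) ≫ ψ' i := by rw [e1]
        _ = s ≫ moHom hz (hAi i) χi w1 ≫ ψ' i := Category.assoc _ _ _
        _ = s ≫ moHom hz (hAi j) χj w2 ≫ ψ' j := by rw [h6]
        _ = (s ≫ moHom hz (hAi j) χj w2) ≫ ψ' j := (Category.assoc _ _ _).symm
        _ = b' ≫ ψ' j := by rw [e2])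
  obtain ⟨b, c', hc'⟩ := ψ
  dsimp only at hψ1
  subst hψ1
  let Ψ : A ⟶ B := ⟨⟨g, m, hcart, hsec⟩, c', hc'⟩
  refine ⟨Ψ, rfl, fun i => ?_⟩
  refine ext_mo (hAi i) hB (X := B.C) (g := pullback.fst A.f (p i).left ≫ m) (g' := 𝟙 B.C) (hφ i).symm ?_ (hw i) ?_
  · change (pullback.fst A.f (p i).left ≫ m) ≫ 𝟙 _ = _
    rw [Category.comp_id]
  · exact hψ2 i

section Sub

variable {Q : Obj S n → Prop}

/-- Morphisms of a full subcategory stable under base change glue. -/
theorem glueFrom_sub (hQ : ∀ (A B : Obj S n) (_ : A ⟶ B), Q B → Q A) (hqc : ∀ A, Q A → Coh.IsQCoh A.E)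
    (A : (AlgSt.fullSub (Fam S n) Q).obj) (R : Sieve A.obj.base)
    (h : ∃ (ι : Type u) (Z : ι → Over S) (p : ∀ i, Z i ⟶ A.obj.base),
      Presieve.ofArrows (fun i => (Z i).left) (fun i => (p i).left) ∈ Scheme.fpqcPrecoverage A.obj.base.left ∧
        ∀ i, R (p i)) :
    K751.Test.GlueFrom (AlgSt.fullSub (Fam S n) Q).p A R := by
  intro B g φ hφ cφ
  obtain ⟨ι, Z, p, hp, hpR⟩ := h
  have hA : Coh.IsQCoh A.obj.E := hqc _ A.property
  have hB : Coh.IsQCoh B.obj.E := hqc _ B.property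
  have hR : ∀ ⦃z : (AlgSt.fullSub (Fam S n) Q).obj⦄ (a : z ⟶ A),
      R ((AlgSt.fullSub (Fam S n) Q).p.map a) ↔ R a.hom.hom.base := fun z a => Iff.rfl
  have cong : ∀ ⦃z : (AlgSt.fullSub (Fam S n) Q).obj⦄ (a a' : z ⟶ A) (ha : R a.hom.hom.base)
      (ha' : R a'.hom.hom.base), a = a' → φ a ha = φ a' ha' := by
    rintro z a a' ha ha' rfl
    rfl
  let x : ∀ i, (AlgSt.fullSub (Fam S n) Q).obj := fun i =>
    ⟨bc A.obj (p i), hQ _ _ (bcHom A.obj (p i)) A.property⟩
  let β : ∀ i, x i ⟶ A := fun i => ObjectProperty.homMk (bcHom A.obj (p i))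
  obtain ⟨ψ, hψ1, hψ2⟩ := exists_glue hA hB p hp g (fun i => (φ (β i) (hpR i)).hom)
    (fun i => hφ (β i) (hpR i)) (fun W i j b b' hbb => by
      let W' : (AlgSt.fullSub (Fam S n) Q).obj := ⟨W, hQ _ _ (b ≫ bcHom A.obj (p i)) A.property⟩
      let b₁ : W' ⟶ x i := ObjectProperty.homMk b
      let b₂ : W' ⟶ x j := ObjectProperty.homMk b'
      have h0 : b₁ ≫ β i = b₂ ≫ β j := ObjectProperty.hom_ext _ hbb
      have h1 : R (b₁ ≫ β i).hom.hom.base := R.downward_closed (hpR i) b.hom.base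
      have h2 : R (b₂ ≫ β j).hom.hom.base := R.downward_closed (hpR j) b'.hom.base
      have h3 := ((cφ b₁ (β i) (hpR i) h1).symm.trans (cong _ _ h1 h2 h0)).trans (cφ b₂ (β j) (hpR j) h2)
      exact congrArg (fun t => t.hom) h3)
  have hsep : ∀ {z : (AlgSt.fullSub (Fam S n) Q).obj} (a : z ⟶ A) (ha : R a.hom.hom.base),
      a.hom ≫ ψ = (φ a ha).hom := by
    intro z a ha
    have hz : Coh.IsQCoh z.obj.E := hqc _ z.property
    obtain ⟨P, q, r, hqr, hP⟩ := exists_bc_cover p hp a.hom.hom.base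
    refine sep hz hB (fun i => bc z.obj (q i)) (fun i => bcHom z.obj (q i)) hP ?_ fun i => ?_
    · have h1 : (φ a ha).hom.hom.base = a.hom.hom.base ≫ g := hφ a ha
      rw [h1, ← hψ1]
      rfl
    · let y : (AlgSt.fullSub (Fam S n) Q).obj := ⟨bc z.obj (q i), hQ _ _ (bcHom z.obj (q i)) z.property⟩
      let ζ : y ⟶ z := ObjectProperty.homMk (bcHom z.obj (q i))
      obtain ⟨γ, ⟨hγ1, hγ2⟩, -⟩ := existsUnique_lift (bcHom A.obj (p i)) (bcHom z.obj (q i) ≫ a.hom) (r i)
        (hqr i).symm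
      let γ' : y ⟶ x i := ObjectProperty.homMk γ
      have h0 : γ' ≫ β i = ζ ≫ a := ObjectProperty.hom_ext _ hγ2
      have h1 : R (γ' ≫ β i).hom.hom.base := R.downward_closed (hpR i) γ.hom.base
      have h2 : R (ζ ≫ a).hom.hom.base := R.downward_closed ha _
      have h3 : γ ≫ (φ (β i) (hpR i)).hom = bcHom z.obj (q i) ≫ (φ a ha).hom :=
        congrArg (fun t => t.hom)
          ((cφ γ' (β i) (hpR i) h1).symm.trans ((cong _ _ h1 h2 h0).trans (cφ ζ a ha h2)))
      rw [← h3, ← hψ2 i, ← Category.assoc, ← hγ2, Category.assoc]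
  refine ⟨ObjectProperty.homMk ψ, ⟨hψ1, fun z a ha => ObjectProperty.hom_ext _ (hsep a ha)⟩, ?_⟩
  rintro ψ' ⟨h1, h2⟩
  apply ObjectProperty.hom_ext
  refine sep hA hB (fun i => bc A.obj (p i)) (fun i => bcHom A.obj (p i)) hp ?_ fun i => ?_
  · exact Eq.trans h1 hψ1.symm
  · exact (congrArg (fun t => t.hom) (h2 (β i) (hpR i))).trans (hψ2 i).symm

/-- Full subcategories of families with quasi-coherent modules stable under base change are prestacks. -/
theorem isPrestack_sub {K : Precoverage Scheme.{u}} [K.IsStableUnderComposition] [K.IsStableUnderBaseChange]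
    [K.HasPullbacks] [K.HasIsos] [Precoverage.Small.{u} K] (hK : K ≤ Scheme.fpqcPrecoverage)
    (hQ : ∀ (A B : Obj S n) (_ : A ⟶ B), Q B → Q A) (hqc : ∀ A, Q A → Coh.IsQCoh A.E) :
    Stk.IsPrestack (QuotSh.J K S) (AlgSt.fullSub (Fam S n) Q) := by
  rw [K751.Test.isPrestack_iff]
  refine ⟨isFibGrpd_sub hQ, fun A R hR => ?_⟩
  obtain ⟨ι, Z, p, hp, hpR⟩ := K185.Cover.exists_ofArrows_of_mem_J hR
  exact glueFrom_sub hQ hqc A R ⟨ι, Z, p, hK _ hp, hpR⟩

end Sub

end K787.FamPre
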