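import Groth.Agent.VecBal.K787.FamStack
import Groth.Agent.VecBal.K678.Eff
import Groth.Agent.VecBal.K675.PolAff
import Groth.Agent.VecBal.K996.IfaceDesc
import Groth.Agent.VecBal.K247.NonemptyObj

/-!
# The category of properly balanced bundles is an fpqc stack, modulo `PolStmt` and `LfpStmt`
-/

set_option autoImplicit false
universe u

open CategoryTheory CategoryTheory.Limits AlgebraicGeometry

namespace K787.VecStack

open Groth.Agent Groth.Agent.VecBal.K812.Iface

/-- The stack condition from the nodes `PolStmt` and `LfpStmt`. -/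
theorem stack (hPol : PolStmt.{u}) (hL : LfpStmt.{u}) (S : Scheme.{u}) (g r : ℕ) (d : ℤ) (hg : 2 ≤ g) (hr : 1 ≤ r) :
    Stk.IsStack (QuotSh.J Scheme.fpqcPrecoverage S) (VecBal.Vecrdg S g r d) := by
  have key := K787.FamStack.main.{u} S (fun A => FamCond g r d A.f A.E) ?_ ?_ ?_ ?_
  · exact key
  · intro A B φ hB
    obtain ⟨e⟩ := K927.ModSt.nonempty_iso_pullback φ.cart
    exact Groth.Agent.VecBal.K678.Eff.famCond_of_iso e (Groth.Agent.VecBal.K678.Eff.famCond_pull φ.hom.cart hB)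
  · intro A hA
    exact Models2.FPCoh.isQCoh_of_isFP hA.2.1.2.1
  · intro B hB ι A φ hc hA
    refine K996.IfaceDesc.condDesc g r d B.C B.base.left B.f B.E hB ι _ _ hc fun i => ?_
    refine ⟨(A i).C, (φ i).hom.top, (A i).f, (φ i).hom.cart, ?_⟩
    obtain ⟨e⟩ := K927.ModSt.nonempty_iso_pullback (φ i).cart
    exact Groth.Agent.VecBal.K678.Eff.famCond_of_iso e.symm (hA i)
  · exact Groth.Agent.VecBal.K678.Eff.main Groth.Agent.VecBal.K675.PolAff.main hPol hL S g r d hg hr

/-- The statement of S19777 from the nodes `PolStmt` and `LfpStmt`. -/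
theorem row (hPol : PolStmt.{u}) (hL : LfpStmt.{u}) (k : Type u) [Field k] [IsAlgClosed k] [CharZero k] (g r : ℕ) (d : ℤ)
    (hg : 2 ≤ g) (hr : 1 ≤ r) :
    Stk.IsStack (QuotSh.J Scheme.fpqcPrecoverage (Spec (CommRingCat.of k)))
      (VecBal.Vecrdg (Spec (CommRingCat.of k)) g r d) ∧
      ∀ (Ω : Type u) [Field Ω] [IsAlgClosed Ω] (t : Spec (CommRingCat.of Ω) ⟶ Spec (CommRingCat.of k)),
        Nonempty ((VecBal.Vecrdg (Spec (CommRingCat.of k)) g r d).p.Fiber (Over.mk t)) :=
  ⟨stack hPol hL _ g r d hg hr, Groth.Agent.VecBal.K247.NonemptyObj.main k g r d hg hr⟩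

end K787.VecStack
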